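import Cfsg.Agent.H770.CY.Defs
import Cfsg.Agent.H125.PC.Crit
import Cfsg.Agent.H674.XZ.CycB

/-!
# S4829, lemma L2: automorphisms preserving the orbitals of a permutation action (helper598, after helper125)

`G` acts on the finite set `Ω`, `i : S → G`, `S` is transitive on `Ω` and every element of `G` preserves every
`S`-orbital: for `g ∈ G` and `x, y ∈ Ω` there is `s ∈ S` with `s x = g x`, `s y = g y`. Then `[π, π]` is the same for `G`
and for `S`, so that the constituents of `π` restrict to distinct irreducible characters of `S` (`rigid`).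

* `orb_core` : a constituent `χ ≠ 1` of `π` of degree prime to `p`, in the principal block on `X`, and `Cyc p`;
* `witA_of_orb`, `rowA_of_orb`, `rowA_of_orb_dvd`, `rowA_of_orb_triv` : the forms for the rows.
-/

set_option autoImplicit false
set_option linter.unusedSectionVars false

open Subgroup
open scoped ComplexConjugate

namespace Cfsg.Agent.H598.CY

open Cfsg Cfsg.Agent.Characters Cfsg.Agent.H145.BR
open Cfsg.Agent.H770.CY (Cyc Amb res mul WitA RowA)

universe u v w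

section inner

variable {G : Type u} [Group G] [Finite G] {S : Type w} [Group S] [Finite S] (i : S →* G)

/-- the inner product of the restrictions -/
theorem pull_inner [Fintype S] [Fintype (IrrCharacter G)] {m : IrrCharacter G → ℕ} {Φ : G → ℂ}
    (hm : Φ = ∑ χ : IrrCharacter G, m χ • (χ : G → ℂ)) {r : IrrCharacter G → IrrCharacter G → ℕ}
    (hr : ∀ χ ψ : IrrCharacter G, classInner (fun s : S => (χ : G → ℂ) (i s)) (fun s : S => (ψ : G → ℂ) (i s)) = r χ ψ) :
    classInner (fun s : S => Φ (i s)) (fun s : S => Φ (i s)) = ((∑ χ, ∑ ψ, m χ * m ψ * r χ ψ : ℕ) : ℂ) := by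
  have h1 : (fun s : S => Φ (i s)) = ∑ χ : IrrCharacter G, (m χ : ℂ) • (fun s : S => (χ : G → ℂ) (i s)) := by
    funext s
    rw [hm, Finset.sum_apply, Finset.sum_apply]
    refine Finset.sum_congr rfl fun χ _ => ?_
    rw [Pi.smul_apply, Pi.smul_apply, nsmul_eq_mul, smul_eq_mul]
  rw [h1, Core.classInner_sum_left, Nat.cast_sum]
  refine Finset.sum_congr rfl fun χ _ => ?_
  rw [Core.classInner_smul_left, Core.classInner_sum_right, Nat.cast_sum, Finset.mul_sum]
  refine Finset.sum_congr rfl fun ψ _ => ?_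
  rw [Core.classInner_smul_right, hr, Complex.conj_natCast]
  push_cast
  ring

theorem self_inner [Fintype G] [Fintype (IrrCharacter G)] {m : IrrCharacter G → ℕ} {Φ : G → ℂ}
    (hm : Φ = ∑ χ : IrrCharacter G, m χ • (χ : G → ℂ)) : classInner Φ Φ = ((∑ χ, m χ * m χ : ℕ) : ℂ) := by
  classical
  have h := pull_inner (S := G) (MonoidHom.id G) hm (r := fun χ ψ => if χ = ψ then 1 else 0) (by
    intro χ ψ
    by_cases h : χ = ψ
    · subst h
      rw [if_pos rfl, Nat.cast_one]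
      exact Core.classInner_irr_self χ.2
    · rw [if_neg h, Nat.cast_zero]
      exact Core.classInner_irr_ne χ.2 ψ.2 (fun e => h (Subtype.ext e)))
  have h2 : classInner Φ Φ = classInner (fun s : G => Φ (MonoidHom.id G s)) (fun s : G => Φ (MonoidHom.id G s)) := rfl
  rw [h2, h]
  congr 1
  refine Finset.sum_congr rfl fun χ _ => ?_
  rw [Finset.sum_eq_single χ]
  · rw [if_pos rfl, mul_one]
  · intro ψ _ hψ
    rw [if_neg (Ne.symm hψ), mul_zero]
  · intro h; exact absurd (Finset.mem_univ _) h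

theorem exists_r [Fintype S] : ∃ r : IrrCharacter G → IrrCharacter G → ℕ, (∀ χ ψ : IrrCharacter G,
    classInner (fun s : S => (χ : G → ℂ) (i s)) (fun s : S => (ψ : G → ℂ) (i s)) = r χ ψ) ∧ ∀ χ, 1 ≤ r χ χ := by
  have h : ∀ χ ψ : IrrCharacter G, ∃ n : ℕ,
      classInner (fun s : S => (χ : G → ℂ) (i s)) (fun s : S => (ψ : G → ℂ) (i s)) = n := fun χ ψ =>
    Core.classInner_isNat (Core.isCharacter_comp i (Core.isIrr_isCharacter χ.2))
      (Core.isCharacter_comp i (Core.isIrr_isCharacter ψ.2))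
  choose r hr using h
  refine ⟨r, hr, fun χ => ?_⟩
  rw [Nat.one_le_iff_ne_zero]
  intro h0
  have h1 := hr χ χ
  rw [h0, Nat.cast_zero] at h1
  have h2 := congrFun (Core.classInner_self_eq_zero h1) 1
  rw [map_one] at h2
  exact Core.isIrr_apply_one_ne_zero χ.2 h2

/-- the norm can only grow -/
theorem norm_le [Fintype S] [Fintype G] {Φ : G → ℂ} (hΦ : IsCharacter G Φ) : ∃ a b : ℕ, classInner Φ Φ = a ∧
    classInner (fun s : S => Φ (i s)) (fun s : S => Φ (i s)) = b ∧ a ≤ b := by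
  have : Finite (IrrCharacter G) := Core.finite_irr
  have := Fintype.ofFinite (IrrCharacter G)
  obtain ⟨m, hm⟩ := Core.isCharacter_iff.1 hΦ
  obtain ⟨r, hr, hr1⟩ := exists_r i (G := G)
  refine ⟨_, _, self_inner hm, pull_inner i hm hr, Finset.sum_le_sum fun χ _ => ?_⟩
  refine le_trans ?_ (Finset.single_le_sum (f := fun ψ => m χ * m ψ * r χ ψ) (fun _ _ => Nat.zero_le _)
    (Finset.mem_univ χ))
  exact Nat.le_mul_of_pos_right _ (hr1 χ)

/-- **rigidity** : equal norms -/
theorem rigid [Fintype S] [Fintype G] [Fintype (IrrCharacter G)] {m : IrrCharacter G → ℕ} {Φ : G → ℂ}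
    (hm : Φ = ∑ χ : IrrCharacter G, m χ • (χ : G → ℂ))
    (h : classInner (fun s : S => Φ (i s)) (fun s : S => Φ (i s)) = classInner Φ Φ) :
    (∀ χ : IrrCharacter G, m χ ≠ 0 →
      classInner (fun s : S => (χ : G → ℂ) (i s)) (fun s : S => (χ : G → ℂ) (i s)) = 1) ∧
    ∀ χ ψ : IrrCharacter G, m χ ≠ 0 → m ψ ≠ 0 → χ ≠ ψ →
      classInner (fun s : S => (χ : G → ℂ) (i s)) (fun s : S => (ψ : G → ℂ) (i s)) = 0 := by
  classical
  obtain ⟨r, hr, hr1⟩ := exists_r i (G := G)
  rw [pull_inner i hm hr, self_inner hm] at h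
  have h1 : ∑ χ : IrrCharacter G, m χ * m χ = ∑ χ, ∑ ψ, m χ * m ψ * r χ ψ := by exact_mod_cast h.symm
  have hle : ∀ χ ∈ (Finset.univ : Finset (IrrCharacter G)), m χ * m χ ≤ ∑ ψ, m χ * m ψ * r χ ψ := by
    intro χ _
    refine le_trans ?_ (Finset.single_le_sum (f := fun ψ => m χ * m ψ * r χ ψ) (fun _ _ => Nat.zero_le _)
      (Finset.mem_univ χ))
    exact Nat.le_mul_of_pos_right _ (hr1 χ)
  have h2 := (Finset.sum_eq_sum_iff_of_le hle).1 h1
  have h3 : ∀ χ : IrrCharacter G, m χ ≠ 0 → r χ χ = 1 ∧ ∀ ψ, m ψ ≠ 0 → χ ≠ ψ → r χ ψ = 0 := by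
    intro χ hχ
    have h4 := h2 χ (Finset.mem_univ χ)
    rw [← Finset.add_sum_erase Finset.univ _ (Finset.mem_univ χ)] at h4
    have hpos : 0 < m χ * m χ := Nat.mul_pos (Nat.pos_of_ne_zero hχ) (Nat.pos_of_ne_zero hχ)
    have h5 : m χ * m χ ≤ m χ * m χ * r χ χ := Nat.le_mul_of_pos_right _ (hr1 χ)
    have h6 : m χ * m χ * r χ χ = m χ * m χ := by omega
    have h7 : ∑ ψ ∈ Finset.univ.erase χ, m χ * m ψ * r χ ψ = 0 := by omega
    refine ⟨?_, fun ψ hψ hne => ?_⟩
    · exact Nat.eq_of_mul_eq_mul_left hpos (by rw [h6, mul_one])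
    · have h8 := (Finset.sum_eq_zero_iff.1 h7) ψ (Finset.mem_erase.2 ⟨Ne.symm hne, Finset.mem_univ ψ⟩)
      rcases Nat.mul_eq_zero.1 h8 with h9 | h9
      · exact absurd h9 (Nat.mul_ne_zero hχ hψ)
      · exact h9
  refine ⟨fun χ hχ => ?_, fun χ ψ hχ hψ hne => ?_⟩
  · rw [hr, (h3 χ hχ).1, Nat.cast_one]
  · rw [hr, (h3 χ hχ).2 ψ hψ hne, Nat.cast_zero]

end inner

section perm

variable {G : Type u} [Group G] [Finite G] {S : Type w} [Group S] [Finite S] (i : S →* G)
variable (Ω : Type v) [Finite Ω] [MulAction G Ω]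

theorem inner_perm_eq [Fintype S] [Fintype G]
    (horb : ∀ (g : G) (x y : Ω), ∃ s : S, i s • x = g • x ∧ i s • y = g • y) :
    classInner (fun s : S => permC G Ω (i s)) (fun s : S => permC G Ω (i s)) =
      classInner (permC G Ω) (permC G Ω) := by
  let act : MulAction S Ω := MulAction.compHom Ω i
  have e1 := H464.PermIrr.classInner_pc (G := S) Ω Ω
  have e2 := H464.PermIrr.classInner_pc (G := G) Ω Ω
  have e3 : classInner (fun s : S => permC G Ω (i s)) (fun s : S => permC G Ω (i s)) =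
      classInner (H464.PermIrr.pc S Ω) (H464.PermIrr.pc S Ω) := rfl
  have e4 : classInner (permC G Ω) (permC G Ω) = classInner (H464.PermIrr.pc G Ω) (H464.PermIrr.pc G Ω) := rfl
  rw [e3, e4, e1, e2]
  have h : MulAction.orbitRel S (Ω × Ω) = MulAction.orbitRel G (Ω × Ω) := by
    ext a b
    rw [MulAction.orbitRel_apply, MulAction.orbitRel_apply]
    constructor
    · rintro ⟨s, hs⟩
      exact ⟨i s, hs⟩
    · rintro ⟨g, hg⟩
      obtain ⟨s, hs1, hs2⟩ := horb g b.1 b.2
      refine ⟨s, ?_⟩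
      rw [← hg]
      exact Prod.ext hs1 hs2
  change (Nat.card (Quotient (MulAction.orbitRel S (Ω × Ω))) : ℂ) = (Nat.card (Quotient (MulAction.orbitRel G (Ω × Ω))) : ℂ)
  rw [h]

omit [Finite Ω] in
theorem permC_pow {k : ℕ} (hk : k.Coprime (Nat.card G)) (g : G) : permC G Ω (g ^ k) = permC G Ω g := by
  unfold permC
  congr 2
  obtain ⟨j, hj⟩ := exists_pow_eq_self_of_coprime (hk.coprime_dvd_right (orderOf_dvd_natCard g))
  have h : MulAction.fixedBy Ω (g ^ k) = MulAction.fixedBy Ω g := by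
    ext x
    rw [MulAction.mem_fixedBy, MulAction.mem_fixedBy, ← MulAction.mem_stabilizer_iff, ← MulAction.mem_stabilizer_iff]
    constructor
    · intro h
      rw [← hj]
      exact pow_mem h j
    · intro h
      exact pow_mem h k
  rw [h]

variable {p : ℕ} [hp : Fact p.Prime] {M : Ideal AlgInt}

/-- the count for the principal block of `X` -/
theorem exists_of_cnt' {X : Type u} [Group X] [Finite X] [Fintype X] [MulAction X Ω] [Nonempty Ω]
    [MulAction.IsPretransitive X Ω] (hM : IsPModular p M) (P : Sylow p X) (h : ¬ cnt (P : Subgroup X) Ω ≡ 1 [MOD p]) :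
    ∃ χ : IrrCharacter X, χ ∈ principalBlock M X ∧ (χ : X → ℂ) ≠ (fun _ => 1) ∧ ¬ p ∣ charDegree (χ : X → ℂ) ∧
      classInner (permC X Ω) (χ : X → ℂ) ≠ 0 := by
  obtain ⟨χ, h1, h2, h3, h4, -⟩ := exists_of_count ({()} : Finset Unit) (fun _ => Ω) (fun _ => 1) hM P (⊥ : Subgroup (MulAut X))
    (IsPGroup.of_bot) (fun a ha g => by
      rw [Subgroup.mem_bot.1 ha]
      rfl) (by
      rw [Finset.sum_singleton, Finset.sum_singleton, card_orb_one, one_mul, one_mul]
      intro h1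
      exact h ((Int.natCast_modEq_iff).1 h1))
  rw [gpc_single] at h4
  exact ⟨χ, h1, h2, h3, h4⟩

set_option maxHeartbeats 1000000 in
/-- **the core** : `ψ` is a constituent of the permutation character on `X`; `j : X → G` need not be an inclusion -/
theorem const_core {X : Type u} [Group X] [Finite X] [Fintype X] [MulAction X Ω] [Fintype S] [Fintype G] [Nonempty Ω]
    (hinj : Function.Injective i) (j : X →* G) (hj : ∀ (x : X) (w : Ω), x • w = j x • w) (iX : S →* X)
    (hji : ∀ s, j (iX s) = i s)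
    (horb : ∀ (g : G) (x y : Ω), ∃ s : S, i s • x = g • x ∧ i s • y = g • y)
    (hcyc : ∀ θ : IrrCharacter S, classInner (fun s : S => permC G Ω (i s)) (θ : S → ℂ) ≠ 0 → Cyc p (θ : S → ℂ))
    (ψ : IrrCharacter X) (hψ1 : (ψ : X → ℂ) ≠ (fun _ => 1)) (hψp : ¬ p ∣ charDegree (ψ : X → ℂ))
    (hψ0 : classInner (permC X Ω) (ψ : X → ℂ) ≠ 0) :
    ∃ (χ : IrrCharacter G) (θ : IrrCharacter S), (∀ s, (θ : S → ℂ) s = (χ : G → ℂ) (i s)) ∧
      Cyc p (θ : S → ℂ) ∧ (θ : S → ℂ) ≠ (fun _ => 1) ∧ Cyc p (χ : G → ℂ) ∧ ¬ p ∣ charDegree (χ : G → ℂ) ∧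
      ∀ x : X, (ψ : X → ℂ) x = (χ : G → ℂ) (j x) := by
  classical
  have : Finite (IrrCharacter G) := Core.finite_irr
  have := Fintype.ofFinite (IrrCharacter G)
  have hpi : IsCharacter G (permC G Ω) := isCharacter_permC (G := G) Ω
  obtain ⟨m, hm⟩ := Core.isCharacter_iff.1 hpi
  obtain ⟨hr1, hr2⟩ := rigid i hm (inner_perm_eq i Ω horb)
  have hmul : ∀ χ : IrrCharacter G, classInner (permC G Ω) (χ : G → ℂ) = (m χ : ℂ) := by
    intro χ
    rw [hm]
    exact Core.classInner_sum_nsmul_irr m χ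
  -- restrictions to `S` of the constituents
  have hirr : ∀ χ : IrrCharacter G, m χ ≠ 0 → IsIrrCharacter S (fun s => (χ : G → ℂ) (i s)) := fun χ hχ =>
    Core.isIrr_of_classInner_self (Core.isCharacter_comp i (Core.isIrr_isCharacter χ.2)) (hr1 χ hχ)
  -- restrictions to `X`
  have hirrX : ∀ χ : IrrCharacter G, m χ ≠ 0 → IsIrrCharacter X (fun x : X => (χ : G → ℂ) (j x)) := by
    intro χ hχ
    have hc : IsCharacter X (fun x : X => (χ : G → ℂ) (j x)) := Core.isCharacter_comp j (Core.isIrr_isCharacter χ.2)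
    obtain ⟨a, b, ha, hb, hab⟩ := norm_le iX hc
    have h1 : classInner (fun s : S => (fun x : X => (χ : G → ℂ) (j x)) (iX s))
        (fun s : S => (fun x : X => (χ : G → ℂ) (j x)) (iX s)) = 1 := by
      have h2 : (fun s : S => (fun x : X => (χ : G → ℂ) (j x)) (iX s)) = fun s : S => (χ : G → ℂ) (i s) := by
        funext s
        change (χ : G → ℂ) (j (iX s)) = (χ : G → ℂ) (i s)
        rw [hji]
      rw [h2]
      exact hr1 χ hχ
    rw [h1] at hb
    have hb1 : b = 1 := by exact_mod_cast hb.symm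
    have ha0 : a ≠ 0 := by
      intro h0
      rw [h0, Nat.cast_zero] at ha
      have h2 := congrFun (Core.classInner_self_eq_zero ha) 1
      change (χ : G → ℂ) (j 1) = 0 at h2
      rw [map_one] at h2
      exact Core.isIrr_apply_one_ne_zero χ.2 h2
    have ha1 : a = 1 := by omega
    refine Core.isIrr_of_classInner_self hc ?_
    rw [ha, ha1, Nat.cast_one]
  obtain ⟨χ, hχm, hχψ⟩ : ∃ χ : IrrCharacter G, m χ ≠ 0 ∧ classInner (fun x : X => (χ : G → ℂ) (j x)) (ψ : X → ℂ) ≠ 0 := by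
    by_contra hcon
    push Not at hcon
    apply hψ0
    have h1 : permC X Ω = ∑ χ : IrrCharacter G, (m χ : ℂ) • (fun x : X => (χ : G → ℂ) (j x)) := by
      funext x
      have h2 : permC X Ω x = permC G Ω (j x) := by
        unfold permC
        congr 2
        have h3 : MulAction.fixedBy Ω x = MulAction.fixedBy Ω (j x) := by
          ext w
          rw [MulAction.mem_fixedBy, MulAction.mem_fixedBy, hj]
        rw [h3]
      rw [h2, hm, Finset.sum_apply, Finset.sum_apply]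
      refine Finset.sum_congr rfl fun χ _ => ?_
      rw [Pi.smul_apply, Pi.smul_apply, nsmul_eq_mul, smul_eq_mul]
    rw [h1, Core.classInner_sum_left]
    refine Finset.sum_eq_zero fun χ _ => ?_
    rw [Core.classInner_smul_left]
    by_cases h0 : m χ = 0
    · rw [h0, Nat.cast_zero, zero_mul]
    · rw [hcon χ h0, mul_zero]
  have hψχ : (fun x : X => (χ : G → ℂ) (j x)) = (ψ : X → ℂ) := by
    by_contra hne
    exact hχψ (Core.classInner_irr_ne (hirrX χ hχm) ψ.2 hne)
  -- the trivial character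
  have hone : m (H893.Sd.one G) ≠ 0 := by
    intro h0
    have h1 := hmul (H893.Sd.one G)
    have h2 : classInner (permC G Ω) ((H893.Sd.one G : IrrCharacter G) : G → ℂ) =
      (Nat.card (MulAction.orbitRel.Quotient G Ω) : ℂ) := classInner_permC_one Ω
    rw [h2, h0, Nat.cast_zero, Nat.cast_eq_zero] at h1
    have h3 : Finite (MulAction.orbitRel.Quotient G Ω) := Quotient.finite _
    have h4 : Nonempty (MulAction.orbitRel.Quotient G Ω) := ⟨Quotient.mk _ (Classical.arbitrary Ω)⟩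
    exact (Nat.card_pos (α := MulAction.orbitRel.Quotient G Ω)).ne' h1
  let θ : IrrCharacter S := ⟨fun s => (χ : G → ℂ) (i s), hirr χ hχm⟩
  have hθ1 : (θ : S → ℂ) ≠ (fun _ => 1) := by
    intro h1
    by_cases hχ1 : χ = H893.Sd.one G
    · apply hψ1
      rw [← hψχ, hχ1]
      rfl
    · have h2 := hr2 χ (H893.Sd.one G) hχm hone hχ1
      have h3 : classInner (fun s : S => (χ : G → ℂ) (i s)) (fun s : S => ((H893.Sd.one G : IrrCharacter G) : G → ℂ) (i s)) =
          classInner (θ : S → ℂ) (θ : S → ℂ) := by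
        rw [h1]
        congr 1
      rw [h3, Core.classInner_irr_self θ.2] at h2
      exact one_ne_zero h2
  have hθc : Cyc p (θ : S → ℂ) := by
    apply hcyc
    -- `[π_S, θ] = m χ`
    have h1 : (fun s : S => permC G Ω (i s)) = ∑ φ : IrrCharacter G, (m φ : ℂ) • (fun s : S => (φ : G → ℂ) (i s)) := by
      funext s
      rw [hm, Finset.sum_apply, Finset.sum_apply]
      refine Finset.sum_congr rfl fun χ _ => ?_
      rw [Pi.smul_apply, Pi.smul_apply, nsmul_eq_mul, smul_eq_mul]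
    rw [h1, Core.classInner_sum_left, Finset.sum_eq_single χ]
    · rw [Core.classInner_smul_left]
      change (m χ : ℂ) * classInner (fun s : S => (χ : G → ℂ) (i s)) (fun s : S => (χ : G → ℂ) (i s)) ≠ 0
      rw [hr1 χ hχm, mul_one]
      exact_mod_cast hχm
    · intro φ _ hφ
      rw [Core.classInner_smul_left]
      by_cases h0 : m φ = 0
      · rw [h0, Nat.cast_zero, zero_mul]
      · change (m φ : ℂ) * classInner (fun s : S => (φ : G → ℂ) (i s)) (fun s : S => (χ : G → ℂ) (i s)) = 0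
        rw [hr2 φ χ h0 hχm hφ, mul_zero]
    · intro h; exact absurd (Finset.mem_univ _) h
  refine ⟨χ, θ, fun s => rfl, hθc, hθ1, ?_, ?_, fun x => (congrFun hψχ x).symm⟩
  · -- cyclotomic
    intro k hk hkp g
    let χ' : IrrCharacter G := ⟨fun g => (χ : G → ℂ) (g ^ k), Cfsg.Agent.Characters.GaloisIrr.isIrr_pow hk χ.2⟩
    have hm' : m χ' ≠ 0 := by
      have h1 : classInner (permC G Ω) (χ' : G → ℂ) = classInner (permC G Ω) (χ : G → ℂ) := by
        rw [← H125.PC.inner_pow hk (permC G Ω) (χ : G → ℂ)]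
        congr 1
        funext g
        exact (permC_pow Ω hk g).symm
      rw [hmul, hmul] at h1
      intro h0
      apply hχm
      rw [h0] at h1
      exact_mod_cast h1.symm
    have heq : χ' = χ := by
      by_contra hne
      have h1 := hr2 χ' χ hm' hχm hne
      have hkS : k.Coprime (Nat.card S) := hk.coprime_dvd_right (Subgroup.card_dvd_of_injective i hinj)
      have h2 : (fun s : S => (χ' : G → ℂ) (i s)) = (fun s : S => (χ : G → ℂ) (i s)) := by
        funext s
        have h3 := hθc k hkS hkp s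
        change (χ : G → ℂ) (i (s ^ k)) = (χ : G → ℂ) (i s) at h3
        rw [map_pow] at h3
        exact h3
      rw [h2, hr1 χ hχm] at h1
      exact one_ne_zero h1
    exact congrFun (congrArg Subtype.val heq) g
  · intro hd
    apply hψp
    have h1 : charDegree (ψ : X → ℂ) = charDegree (χ : G → ℂ) := by
      unfold charDegree
      rw [← hψχ]
      simp only [map_one]
    rw [h1]
    exact hd

end perm

section wit

variable {p : ℕ} [hp : Fact p.Prime] {M : Ideal AlgInt} {S : Type u} [Group S] [Fintype S]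

/-- the inner automorphisms, as a homomorphism to `A` -/
noncomputable def inn {A : Subgroup (MulAut S)} (hA : ∀ s : S, MulAut.conj s ∈ A) : S →* A :=
  (MulAut.conj : S →* MulAut S).codRestrict A hA

theorem inn_apply {A : Subgroup (MulAut S)} (hA : ∀ s : S, MulAut.conj s ∈ A) (s : S) :
    inn hA s = ⟨MulAut.conj s, hA s⟩ := rfl

theorem conj_injective [IsSimpleGroup S] (hnc : ¬ IsMulCommutative S) : Function.Injective (MulAut.conj : S →* MulAut S) := by
  rw [← MonoidHom.ker_eq_bot_iff]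
  rcases (inferInstance : (MulAut.conj : S →* MulAut S).ker.Normal).eq_bot_or_eq_top with h | h
  · exact h
  · exfalso
    apply hnc
    refine ⟨⟨fun a b => ?_⟩⟩
    have h1 : MulAut.conj a = 1 := by
      rw [← MonoidHom.mem_ker, h]
      exact Subgroup.mem_top a
    have h2 : a * b * a⁻¹ = b := by
      have h3 := DFunLike.congr_fun h1 b
      exact h3
    calc a * b = a * b * a⁻¹ * a := by group
      _ = b * a := by rw [h2]

theorem inn_injective [IsSimpleGroup S] (hnc : ¬ IsMulCommutative S) {A : Subgroup (MulAut S)} (hA : ∀ s : S, MulAut.conj s ∈ A) :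
    Function.Injective (inn hA) := fun _ _ h => conj_injective hnc (congrArg Subtype.val h)

set_option maxHeartbeats 1000000 in
/-- the witness from the characters -/
theorem wit_of_chars [IsSimpleGroup S] (hnc : ¬ IsMulCommutative S) (hM : IsPModular p M) {A : Subgroup (MulAut S)}
    (hA : ∀ s : S, MulAut.conj s ∈ A)
    {Y : Type u} [Group Y] [Finite Y] (j : Y →* A) (hj : Function.Injective j) (iY : S →* Y)
    (hji : ∀ s, j (iY s) = inn hA s) (hreg : ∀ a : A, ¬ p ∣ orderOf a → a ∈ j.range) (hidx : ¬ p ∣ iY.range.index)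
    (χ : IrrCharacter A) (θ : IrrCharacter S) (ψ : IrrCharacter Y)
    (h1 : ∀ s, (θ : S → ℂ) s = (χ : A → ℂ) (inn hA s)) (h2 : Cyc p (θ : S → ℂ)) (h3 : (θ : S → ℂ) ≠ (fun _ => 1))
    (h4 : Cyc p (χ : A → ℂ)) (h5 : ¬ p ∣ charDegree (χ : A → ℂ)) (h6 : ψ ∈ principalBlock M Y)
    (h7 : ∀ y : Y, (ψ : Y → ℂ) y = (χ : A → ℂ) (j y)) : WitA p M S A hA (χ : A → ℂ) where
  char := Core.isIrr_isCharacter χ.2
  cyc := h4
  deg := ⟨charDegree (χ : A → ℂ), (S0914.degree_spec χ).1, h5⟩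
  mf := by
    intro φ
    have hres : res hA (χ : A → ℂ) = (θ : S → ℂ) := by
      funext s
      exact (h1 s).symm
    have hm : ∀ ψ φ : S → ℂ, mul ψ φ = classInner ψ φ := fun ψ φ => rfl
    rw [hm, hres]
    by_cases h : θ = φ
    · subst h
      exact Or.inr ⟨Core.classInner_irr_self θ.2, h3, h2⟩
    · exact Or.inl (Core.classInner_irr_ne θ.2 φ.2 (fun e => h (Subtype.ext e)))
  loc := by
    rintro a ha ⟨Q, hQ⟩
    obtain ⟨y, hy⟩ := hreg a ha
    have hiY : Function.Injective iY := by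
      intro s t hst
      apply inn_injective hnc hA
      rw [← hji, ← hji, hst]
    have hy1 : ¬ p ∣ (centralizer ({y} : Set Y)).index := by
      have hle : (Q : Subgroup S).map iY ≤ centralizer ({y} : Set Y) := by
        rintro _ ⟨x, hx, rfl⟩
        rw [Subgroup.mem_centralizer_singleton_iff]
        apply hj
        rw [map_mul, map_mul, hji, hy]
        apply Subtype.ext
        change MulAut.conj x * (a : MulAut S) = (a : MulAut S) * MulAut.conj x
        ext z
        change x * (a : MulAut S) z * x⁻¹ = (a : MulAut S) (x * z * x⁻¹)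
        rw [map_mul, map_mul, map_inv, hQ x hx]
      intro hd
      have hd2 : p ∣ ((Q : Subgroup S).map iY).index := hd.trans (Subgroup.index_dvd_of_le hle)
      rw [Subgroup.index_map, (MonoidHom.ker_eq_bot_iff iY).2 hiY, sup_bot_eq] at hd2
      rcases hp.out.dvd_mul.1 hd2 with h | h
      · exact Q.not_dvd_index h
      · exact hidx h
    have h8 := H674.XZ.loc_b hM h6 hy1
    rw [h7, h7, map_one, hy] at h8
    exact h8

/-! ### the group `X` of `Amb` -/

theorem reg_mem {A X : Subgroup (MulAut S)} (hn : ∀ a ∈ A, ∀ x ∈ X, a * x * a⁻¹ ∈ X) {k : ℕ}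
    (hk : X.relIndex A = p ^ k) (a : A) (ha : ¬ p ∣ orderOf a) : (a : MulAut S) ∈ X := by
  have hnX : (X.subgroupOf A).Normal := ⟨fun x hx g => hn g g.2 x hx⟩
  have h1 : a ^ (X.subgroupOf A).index ∈ X.subgroupOf A := Subgroup.pow_index_mem _ a
  have h2 : (X.subgroupOf A).index = p ^ k := hk
  rw [h2] at h1
  have hc : (p ^ k).Coprime (orderOf a) := Nat.Coprime.pow_left k ((Nat.Prime.coprime_iff_not_dvd hp.out).2 ha)
  obtain ⟨m, hm⟩ := exists_pow_eq_self_of_coprime hc
  have h3 : a ∈ X.subgroupOf A := by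
    rw [← hm]
    exact pow_mem h1 m
  exact h3

theorem idx_not_dvd {X : Subgroup (MulAut S)} (hSX : ∀ s : S, MulAut.conj s ∈ X)
    (hpX : ¬ p ∣ (MulAut.conj : S →* MulAut S).range.relIndex X) : ¬ p ∣ (inn hSX).range.index := by
  have h1 : (inn hSX).range = (MulAut.conj : S →* MulAut S).range.subgroupOf X := by
    ext x
    constructor
    · rintro ⟨s, rfl⟩
      exact ⟨s, rfl⟩
    · rintro ⟨s, hs⟩
      exact ⟨s, Subtype.ext hs⟩
  rw [h1]
  exact hpX

variable {Ω : Type v} [Finite Ω] [Nonempty Ω]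

/-- general form of the last step -/
theorem wit_gen [IsSimpleGroup S] (hnc : ¬ IsMulCommutative S) (hM : IsPModular p M) {A : Subgroup (MulAut S)}
    (hA : ∀ s : S, MulAut.conj s ∈ A) [MulAction A Ω]
    {Y : Type u} [Group Y] [Finite Y] [Fintype Y] [MulAction Y Ω] (j : Y →* A) (hj : Function.Injective j)
    (hjx : ∀ (y : Y) (w : Ω), y • w = j y • w) (iY : S →* Y)
    (hji : ∀ s, j (iY s) = inn hA s) (hreg : ∀ a : A, ¬ p ∣ orderOf a → a ∈ j.range) (hidx : ¬ p ∣ iY.range.index)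
    (horb : ∀ (a : A) (x y : Ω), ∃ s : S, inn hA s • x = a • x ∧ inn hA s • y = a • y)
    (hcyc : ∀ θ : IrrCharacter S, classInner (fun s : S => permC A Ω (inn hA s)) (θ : S → ℂ) ≠ 0 → Cyc p (θ : S → ℂ))
    (ψ : IrrCharacter Y) (hB : ψ ∈ principalBlock M Y) (hψ1 : (ψ : Y → ℂ) ≠ (fun _ => 1))
    (hψp : ¬ p ∣ charDegree (ψ : Y → ℂ)) (hψ0 : classInner (permC Y Ω) (ψ : Y → ℂ) ≠ 0) :
    ∃ Ψ : A → ℂ, WitA p M S A hA Ψ := by
  have := Fintype.ofFinite A
  obtain ⟨χ, θ, h1, h2, h3, h4, h5, h6⟩ := const_core (inn hA) Ω (inn_injective hnc hA) j hjx iY hji horb hcyc ψ hψ1 hψp hψ0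
  exact ⟨_, wit_of_chars hnc hM hA j hj iY hji hreg hidx χ θ ψ h1 h2 h3 h4 h5 hB h6⟩

/-- general form with the count -/
theorem wit_gen_cnt [IsSimpleGroup S] (hnc : ¬ IsMulCommutative S) (hM : IsPModular p M) {A : Subgroup (MulAut S)}
    (hA : ∀ s : S, MulAut.conj s ∈ A) [MulAction A Ω]
    {Y : Type u} [Group Y] [Finite Y] [MulAction Y Ω] (j : Y →* A) (hj : Function.Injective j)
    (hjx : ∀ (y : Y) (w : Ω), y • w = j y • w) (iY : S →* Y)
    (hji : ∀ s, j (iY s) = inn hA s) (hreg : ∀ a : A, ¬ p ∣ orderOf a → a ∈ j.range) (hidx : ¬ p ∣ iY.range.index)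
    (htr : ∀ x y : Ω, ∃ s : S, inn hA s • x = y)
    (horb : ∀ (a : A) (x y : Ω), ∃ s : S, inn hA s • x = a • x ∧ inn hA s • y = a • y)
    (hcyc : ∀ θ : IrrCharacter S, classInner (fun s : S => permC A Ω (inn hA s)) (θ : S → ℂ) ≠ 0 → Cyc p (θ : S → ℂ))
    (P : Sylow p Y) (hcnt : ¬ cnt (P : Subgroup Y) Ω ≡ 1 [MOD p]) :
    ∃ Ψ : A → ℂ, WitA p M S A hA Ψ := by
  have := Fintype.ofFinite Y
  have htrY : MulAction.IsPretransitive Y Ω := ⟨fun x y => by
    obtain ⟨s, hs⟩ := htr x y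
    refine ⟨iY s, ?_⟩
    rw [hjx, hji]
    exact hs⟩
  obtain ⟨ψ, h1, h2, h3, h4⟩ := exists_of_cnt' Ω hM P hcnt
  exact wit_gen hnc hM hA j hj hjx iY hji hreg hidx horb hcyc ψ h1 h2 h3 h4

/-- **L2, last step**: `X` the group of `Amb`, `ψ` a nontrivial constituent of the permutation character of `X`, in the
principal block and of degree prime to `p` -/
theorem wit_of_const [IsSimpleGroup S] (hnc : ¬ IsMulCommutative S) (hM : IsPModular p M) {A : Subgroup (MulAut S)}
    (hA : ∀ s : S, MulAut.conj s ∈ A) [MulAction A Ω] (X : Subgroup (MulAut S)) (hXA : X ≤ A)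
    (hSX : ∀ s : S, MulAut.conj s ∈ X) (hn : ∀ a ∈ A, ∀ x ∈ X, a * x * a⁻¹ ∈ X)
    (hpX : ¬ p ∣ (MulAut.conj : S →* MulAut S).range.relIndex X) {k : ℕ} (hk : X.relIndex A = p ^ k)
    [MulAction X Ω] [Fintype X] (hX : ∀ (x : X) (w : Ω), x • w = (⟨x, hXA x.2⟩ : A) • w)
    (horb : ∀ (a : A) (x y : Ω), ∃ s : S, inn hA s • x = a • x ∧ inn hA s • y = a • y)
    (hcyc : ∀ θ : IrrCharacter S, classInner (fun s : S => permC A Ω (inn hA s)) (θ : S → ℂ) ≠ 0 → Cyc p (θ : S → ℂ))
    (ψ : IrrCharacter X) (hB : ψ ∈ principalBlock M X) (hψ1 : (ψ : X → ℂ) ≠ (fun _ => 1))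
    (hψp : ¬ p ∣ charDegree (ψ : X → ℂ)) (hψ0 : classInner (permC X Ω) (ψ : X → ℂ) ≠ 0) :
    ∃ Ψ : A → ℂ, WitA p M S A hA Ψ :=
  wit_gen hnc hM hA (Subgroup.inclusion hXA) (Subgroup.inclusion_injective hXA) hX (inn hSX) (fun _ => rfl)
    (fun a ha => ⟨⟨a, reg_mem hn hk a ha⟩, rfl⟩) (idx_not_dvd hSX hpX) horb hcyc ψ hB hψ1 hψp hψ0

/-- **L2 with the group `X` of `Amb` given**: `Ω` may depend on `X` -/
theorem witA_of_orbX [IsSimpleGroup S] (hnc : ¬ IsMulCommutative S) (hM : IsPModular p M) {A : Subgroup (MulAut S)}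
    (hA : ∀ s : S, MulAut.conj s ∈ A) [MulAction A Ω] (X : Subgroup (MulAut S)) (hXA : X ≤ A)
    (hSX : ∀ s : S, MulAut.conj s ∈ X) (hn : ∀ a ∈ A, ∀ x ∈ X, a * x * a⁻¹ ∈ X)
    (hpX : ¬ p ∣ (MulAut.conj : S →* MulAut S).range.relIndex X) {k : ℕ} (hk : X.relIndex A = p ^ k)
    [MulAction X Ω] (hX : ∀ (x : X) (w : Ω), x • w = (⟨x, hXA x.2⟩ : A) • w)
    (htr : ∀ x y : Ω, ∃ s : S, inn hA s • x = y)
    (horb : ∀ (a : A) (x y : Ω), ∃ s : S, inn hA s • x = a • x ∧ inn hA s • y = a • y)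
    (hcyc : ∀ θ : IrrCharacter S, classInner (fun s : S => permC A Ω (inn hA s)) (θ : S → ℂ) ≠ 0 → Cyc p (θ : S → ℂ))
    (P : Sylow p X) (hcnt : ¬ cnt (P : Subgroup X) Ω ≡ 1 [MOD p]) :
    ∃ Ψ : A → ℂ, WitA p M S A hA Ψ :=
  wit_gen_cnt hnc hM hA (Subgroup.inclusion hXA) (Subgroup.inclusion_injective hXA) hX (inn hSX) (fun _ => rfl)
    (fun a ha => ⟨⟨a, reg_mem hn hk a ha⟩, rfl⟩) (idx_not_dvd hSX hpX) htr horb hcyc P hcnt

/-- **L2** : `A` acts on `Ω` and preserves the `S`-orbitals -/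
theorem witA_of_orb [IsSimpleGroup S] (hnc : ¬ IsMulCommutative S) (hM : IsPModular p M) {A : Subgroup (MulAut S)}
    (hA : Amb p S A) [MulAction A Ω]
    (htr : ∀ x y : Ω, ∃ s : S, inn hA.1 s • x = y)
    (horb : ∀ (a : A) (x y : Ω), ∃ s : S, inn hA.1 s • x = a • x ∧ inn hA.1 s • y = a • y)
    (hcyc : ∀ θ : IrrCharacter S, classInner (fun s : S => permC A Ω (inn hA.1 s)) (θ : S → ℂ) ≠ 0 → Cyc p (θ : S → ℂ))
    (hcnt : ∀ X : Subgroup A, (∀ s, inn hA.1 s ∈ X) → ¬ p ∣ (inn hA.1).range.relIndex X → X.Normal →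
      (∃ k, X.index = p ^ k) → ∃ P : Sylow p X, ¬ cnt (P : Subgroup X) Ω ≡ 1 [MOD p]) :
    ∃ Ψ : A → ℂ, WitA p M S A hA.1 Ψ := by
  obtain ⟨X, hXA, hSX, hn, hpX, k, hk⟩ := hA.2
  have hidx : ¬ p ∣ (inn hA.1).range.relIndex (X.subgroupOf A) := by
    have h1 : (inn hA.1).range = (MulAut.conj : S →* MulAut S).range.subgroupOf A := by
      ext x
      constructor
      · rintro ⟨s, rfl⟩
        exact ⟨s, rfl⟩
      · rintro ⟨s, hs⟩
        exact ⟨s, Subtype.ext hs⟩
    rw [h1, Subgroup.relIndex_subgroupOf hXA]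
    exact hpX
  obtain ⟨P, hP⟩ := hcnt (X.subgroupOf A) (fun s => hSX s) hidx ⟨fun x hx g => hn g g.2 x hx⟩ ⟨k, hk⟩
  have hle : (inn hA.1).range ≤ X.subgroupOf A := by
    rintro _ ⟨s, rfl⟩
    exact hSX s
  have hidx2 : ¬ p ∣ ((inn hA.1).codRestrict (X.subgroupOf A) (fun s => hSX s)).range.index := by
    have h1 : ((inn hA.1).codRestrict (X.subgroupOf A) (fun s => hSX s)).range = (inn hA.1).range.subgroupOf (X.subgroupOf A) := by
      ext x
      constructor
      · rintro ⟨s, rfl⟩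
        exact ⟨s, rfl⟩
      · rintro ⟨s, hs⟩
        exact ⟨s, Subtype.ext hs⟩
    rw [h1]
    exact hidx
  exact wit_gen_cnt hnc hM hA.1 (X.subgroupOf A).subtype (Subgroup.subtype_injective _) (fun _ _ => rfl)
    ((inn hA.1).codRestrict (X.subgroupOf A) (fun s => hSX s)) (fun _ => rfl)
    (fun a ha => ⟨⟨a, reg_mem hn hk a ha⟩, rfl⟩) hidx2 htr horb hcyc P hP

/-- no fixed points -/
theorem cnt_zero {X : Type u} [Group X] [Finite X] [MulAction X Ω] [MulAction.IsPretransitive X Ω] (P : Sylow p X)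
    (hd : p ∣ Nat.card Ω) : cnt (P : Subgroup X) Ω = 0 := by
  have hem : IsEmpty {x : Ω // ∀ g ∈ (P : Subgroup X), g • x = x} := by
    constructor
    rintro ⟨w, hw⟩
    have h1 : (MulAction.stabilizer X w).index = Nat.card Ω := by
      rw [MulAction.index_stabilizer]
      have h2 : MulAction.orbit X w = Set.univ := MulAction.orbit_eq_univ X w
      rw [h2, Set.ncard_univ]
    have h3 : (P : Subgroup X) ≤ MulAction.stabilizer X w := fun g hg => hw g hg
    have h4 := Subgroup.index_dvd_of_le h3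
    rw [h1] at h4
    exact P.not_dvd_index (hd.trans h4)
  unfold cnt
  rw [Nat.card_eq_zero]
  left
  constructor
  rintro ⟨x⟩
  exact hem.false x

/-- **L2, `p` divides the degree** -/
theorem witA_of_dvd [IsSimpleGroup S] (hnc : ¬ IsMulCommutative S) (hM : IsPModular p M) {A : Subgroup (MulAut S)}
    (hA : Amb p S A) [MulAction A Ω]
    (htr : ∀ x y : Ω, ∃ s : S, inn hA.1 s • x = y)
    (horb : ∀ (a : A) (x y : Ω), ∃ s : S, inn hA.1 s • x = a • x ∧ inn hA.1 s • y = a • y)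
    (hcyc : ∀ θ : IrrCharacter S, classInner (fun s : S => permC A Ω (inn hA.1 s)) (θ : S → ℂ) ≠ 0 → Cyc p (θ : S → ℂ))
    (hd : p ∣ Nat.card Ω) : ∃ Ψ : A → ℂ, WitA p M S A hA.1 Ψ := by
  refine witA_of_orb hnc hM hA htr horb hcyc fun X hX _ _ _ => ?_
  have htrX : MulAction.IsPretransitive X Ω := ⟨fun x y => by
    obtain ⟨s, hs⟩ := htr x y
    exact ⟨⟨inn hA.1 s, hX s⟩, hs⟩⟩
  refine ⟨default, ?_⟩
  rw [cnt_zero default hd]
  intro h
  exact hp.out.one_lt.ne' (Nat.dvd_one.1 ((Nat.modEq_zero_iff_dvd).1 h.symm))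

/-- **L2, trivial action of the centralizer on the fixed points** -/
theorem witA_of_triv [IsSimpleGroup S] (hnc : ¬ IsMulCommutative S) (hM : IsPModular p M) {A : Subgroup (MulAut S)}
    (hA : Amb p S A) [MulAction A Ω]
    (htr : ∀ x y : Ω, ∃ s : S, inn hA.1 s • x = y)
    (horb : ∀ (a : A) (x y : Ω), ∃ s : S, inn hA.1 s • x = a • x ∧ inn hA.1 s • y = a • y)
    (hcyc : ∀ θ : IrrCharacter S, classInner (fun s : S => permC A Ω (inn hA.1 s)) (θ : S → ℂ) ≠ 0 → Cyc p (θ : S → ℂ))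
    (htriv : ∀ (Q : Sylow p S) (a : A), (∀ x ∈ Q, (a : MulAut S) x = x) → ∀ w : Ω, (∀ x ∈ Q, inn hA.1 x • w = w) → a • w = w)
    (hd : ¬ Nat.card Ω ≡ 1 [MOD p]) : ∃ Ψ : A → ℂ, WitA p M S A hA.1 Ψ := by
  refine witA_of_orb hnc hM hA htr horb hcyc fun X hX hpX hXn _ => ?_
  -- the Sylow subgroup of `X` is the image of a Sylow subgroup of `S`
  let Q : Sylow p S := default
  let iX : S →* X := (inn hA.1).codRestrict X hX
  have hiX : Function.Injective iX := fun s t h => inn_injective hnc hA.1 (congrArg Subtype.val h)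
  have hidx : ¬ p ∣ ((Q : Subgroup S).map iX).index := by
    rw [Subgroup.index_map, (MonoidHom.ker_eq_bot_iff iX).2 hiX, sup_bot_eq]
    intro h
    rcases hp.out.dvd_mul.1 h with h | h
    · exact Q.not_dvd_index h
    · have h1 : iX.range = (inn hA.1).range.subgroupOf X := by
        ext x
        constructor
        · rintro ⟨s, rfl⟩
          exact ⟨s, rfl⟩
        · rintro ⟨s, hs⟩
          exact ⟨s, Subtype.ext hs⟩
      rw [h1] at h
      exact hpX h
  let P : Sylow p X := (Q.2.map iX).toSylow hidx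
  have hP : (P : Subgroup X) = (Q : Subgroup S).map iX := rfl
  refine ⟨P, fun h => hd ((cnt_modEq_card P Ω ?_).symm.trans h)⟩
  intro c hc w hw
  refine htriv Q c ?_ w ?_
  · intro x hx
    have h1 : iX x * c = c * iX x := (Subgroup.mem_centralizer_iff.1 hc) (iX x) (by
      show iX x ∈ (P : Subgroup X)
      rw [hP]
      exact ⟨x, hx, rfl⟩)
    have h2 : MulAut.conj x * ((c : A) : MulAut S) = ((c : A) : MulAut S) * MulAut.conj x :=
      congrArg (fun z : X => ((z : A) : MulAut S)) h1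
    apply conj_injective hnc
    have h3 : MulAut.conj (((c : A) : MulAut S) x) = ((c : A) : MulAut S) * MulAut.conj x * ((c : A) : MulAut S)⁻¹ := by
      ext z
      simp [MulAut.conj_apply]
    rw [h3, ← h2, mul_inv_cancel_right]
  · intro x hx
    exact hw (iX x) (by
      rw [hP]
      exact ⟨x, hx, rfl⟩)

/-- **L2, the row** : `MulAut S` acts on `Ω` -/
theorem rowA_of_orb [IsSimpleGroup S] (hnc : ¬ IsMulCommutative S) [MulAction (MulAut S) Ω]
    (htr : ∀ x y : Ω, ∃ s : S, MulAut.conj s • x = y)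
    (horb : ∀ (a : MulAut S) (x y : Ω), ∃ s : S, MulAut.conj s • x = a • x ∧ MulAut.conj s • y = a • y)
    (hcyc : ∀ θ : IrrCharacter S, classInner (fun s : S => permC (MulAut S) Ω (MulAut.conj s)) (θ : S → ℂ) ≠ 0 →
      Cyc p (θ : S → ℂ))
    (hcnt : ∀ X : Subgroup (MulAut S), (∀ s, MulAut.conj s ∈ X) → ¬ p ∣ (MulAut.conj : S →* MulAut S).range.relIndex X →
      ∃ P : Sylow p X, ¬ cnt (P : Subgroup X) Ω ≡ 1 [MOD p]) : RowA p S := by
  intro A hA M hM
  obtain ⟨X, hXA, hSX, hn, hpX, k, hk⟩ := hA.2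
  obtain ⟨P, hP⟩ := hcnt X hSX hpX
  exact witA_of_orbX hnc hM hA.1 X hXA hSX hn hpX hk (fun _ _ => rfl) htr (fun a x y => horb a x y) hcyc P hP

/-- **the row, `p` divides the degree** -/
theorem rowA_of_dvd [IsSimpleGroup S] (hnc : ¬ IsMulCommutative S) [MulAction (MulAut S) Ω]
    (htr : ∀ x y : Ω, ∃ s : S, MulAut.conj s • x = y)
    (horb : ∀ (a : MulAut S) (x y : Ω), ∃ s : S, MulAut.conj s • x = a • x ∧ MulAut.conj s • y = a • y)
    (hcyc : ∀ θ : IrrCharacter S, classInner (fun s : S => permC (MulAut S) Ω (MulAut.conj s)) (θ : S → ℂ) ≠ 0 →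
      Cyc p (θ : S → ℂ))
    (hd : p ∣ Nat.card Ω) : RowA p S := by
  intro A hA M hM
  exact witA_of_dvd hnc hM hA htr (fun a x y => horb a x y) hcyc hd

/-- **the row, trivial action of the centralizer on the fixed points** -/
theorem rowA_of_triv [IsSimpleGroup S] (hnc : ¬ IsMulCommutative S) [MulAction (MulAut S) Ω]
    (htr : ∀ x y : Ω, ∃ s : S, MulAut.conj s • x = y)
    (horb : ∀ (a : MulAut S) (x y : Ω), ∃ s : S, MulAut.conj s • x = a • x ∧ MulAut.conj s • y = a • y)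
    (hcyc : ∀ θ : IrrCharacter S, classInner (fun s : S => permC (MulAut S) Ω (MulAut.conj s)) (θ : S → ℂ) ≠ 0 →
      Cyc p (θ : S → ℂ))
    (htriv : ∀ (Q : Sylow p S) (a : MulAut S), (∀ x ∈ Q, a x = x) → ∀ w : Ω, (∀ x ∈ Q, MulAut.conj x • w = w) → a • w = w)
    (hd : ¬ Nat.card Ω ≡ 1 [MOD p]) : RowA p S := by
  intro A hA M hM
  exact witA_of_triv hnc hM hA htr (fun a x y => horb a x y) hcyc (fun Q a h w hw => htriv Q a h w hw) hd

end wit

/-- integer valued characters are `Cyc p` -/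
theorem cyc_of_int {p : ℕ} {G : Type u} [Group G] [Finite G] {χ : G → ℂ} (hχ : IsCharacter G χ)
    (h : ∀ g, ∃ k : ℤ, χ g = k) : Cyc p χ := by
  intro k hk _ g
  obtain ⟨σ, hσ⟩ := Cfsg.Agent.Characters.GaloisBasic.exists_ringEquiv_of_coprime (G := G) hk
  have h1 := hσ χ hχ g
  obtain ⟨n, hn⟩ := h g
  rw [← h1, hn, map_intCast]

end Cfsg.Agent.H598.CY
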