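import Cfsg.Agent.H598.CY.Orb
import Cfsg.Agent.CharactersDeep.ExtUnique
import Cfsg.Agent.H893.Sd.MemIff

/-!
# S4829, lemma L9: a subgroup of index two (helper598, after helper770)

`A₀ ≤ A` of index at most two, `χ` a `p`-cyclotomic irreducible character of `A`, irreducible on `S`, which satisfies the
local condition on `A₀`. Then `χ` or `χ ε` is a witness for `A`, `ε` the sign character of `A / A₀`.
-/

set_option autoImplicit false
set_option linter.unusedSectionVars false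

open Subgroup
open scoped ComplexConjugate

namespace Cfsg.Agent.H598.CY

open Cfsg Cfsg.Agent.Characters Cfsg.Agent.H145.BR Cfsg.Agent.Blocks.Blau
open Cfsg.Agent.H770.CY (Cyc Amb res mul WitA RowA)

universe u v w

section sign

variable {G : Type u} [Group G] (B : Subgroup G)

open Classical in
/-- the sign character of `G / B`, `|G : B| ≤ 2` -/
noncomputable def sgn (h2 : ∀ a b : G, a ∉ B → b ∉ B → a * b ∈ B) : G →* ℂˣ :=
  MonoidHom.mk' (fun a => if a ∈ B then 1 else -1) (by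
    intro a b
    by_cases ha : a ∈ B
    · by_cases hb : b ∈ B
      · rw [if_pos ha, if_pos hb, if_pos (mul_mem ha hb), one_mul]
      · rw [if_pos ha, if_neg hb, if_neg (fun h => hb ((B.mul_mem_cancel_left ha).1 h)), one_mul]
    · by_cases hb : b ∈ B
      · rw [if_neg ha, if_pos hb, if_neg (fun h => ha ((B.mul_mem_cancel_right hb).1 h)), mul_one]
      · rw [if_neg ha, if_neg hb, if_pos (h2 a b ha hb)]
        norm_num)

variable (h2 : ∀ a b : G, a ∉ B → b ∉ B → a * b ∈ B)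

theorem sgn_of_mem {a : G} (h : a ∈ B) : sgn B h2 a = 1 := if_pos h

theorem sgn_of_not_mem {a : G} (h : a ∉ B) : sgn B h2 a = -1 := if_neg h

theorem sgn_pow [Finite G] {k : ℕ} (hk : k.Coprime (Nat.card G)) (a : G) : sgn B h2 (a ^ k) = sgn B h2 a := by
  by_cases h : a ∈ B
  · rw [sgn_of_mem B h2 h, sgn_of_mem B h2 (pow_mem h k)]
  · rw [map_pow, sgn_of_not_mem B h2 h]
    have h1 : (-1 : ℂˣ) ^ orderOf a = 1 := by
      rw [← sgn_of_not_mem B h2 h, ← map_pow, pow_orderOf_eq_one, map_one]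
    have h3 : Even (orderOf a) := by
      by_contra hodd
      rw [Nat.not_even_iff_odd] at hodd
      rw [hodd.neg_one_pow] at h1
      have h4 := congrArg Units.val h1
      norm_num at h4
    have h5 : Odd k := by
      rw [← Nat.not_even_iff_odd]
      intro hev
      have h6 := hk.coprime_dvd_right (orderOf_dvd_natCard a)
      have h7 : 2 ∣ Nat.gcd k (orderOf a) := Nat.dvd_gcd hev.two_dvd h3.two_dvd
      rw [h6] at h7
      omega
    rw [h5.neg_one_pow]

/-- the twist by the sign -/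
noncomputable def tw (χ : IrrCharacter G) : IrrCharacter G :=
  ⟨fun g => (χ : G → ℂ) g * (sgn B h2 g : ℂ), CharactersDeep.ExtUnique.isIrr_mul_hom χ.2 (sgn B h2)⟩

theorem tw_of_mem (χ : IrrCharacter G) {a : G} (h : a ∈ B) : (tw B h2 χ : G → ℂ) a = (χ : G → ℂ) a := by
  change (χ : G → ℂ) a * (sgn B h2 a : ℂ) = _
  rw [sgn_of_mem B h2 h, Units.val_one, mul_one]

theorem tw_of_not_mem (χ : IrrCharacter G) {a : G} (h : a ∉ B) : (tw B h2 χ : G → ℂ) a = - (χ : G → ℂ) a := by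
  change (χ : G → ℂ) a * (sgn B h2 a : ℂ) = _
  rw [sgn_of_not_mem B h2 h, Units.val_neg, Units.val_one]
  ring

theorem tw_cyc [Finite G] {p : ℕ} {χ : IrrCharacter G} (hχ : Cyc p (χ : G → ℂ)) : Cyc p (tw B h2 χ : G → ℂ) := by
  intro k hk hkp g
  change (χ : G → ℂ) (g ^ k) * (sgn B h2 (g ^ k) : ℂ) = (χ : G → ℂ) g * (sgn B h2 g : ℂ)
  rw [hχ k hk hkp, sgn_pow B h2 hk]

theorem tw_degree (χ : IrrCharacter G) : charDegree (tw B h2 χ : G → ℂ) = charDegree (χ : G → ℂ) := by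
  unfold charDegree
  rw [tw_of_mem B h2 χ (one_mem B)]

end sign

section block

variable {p : ℕ} [hp : Fact p.Prime] {M : Ideal AlgInt} {G : Type u} [Group G] [Finite G]

/-- the local condition puts `χ` in the principal block -/
theorem b0_of_loc (hM : IsPModular p M) (P : Sylow p G) (χ : IrrCharacter G) (hχ : ¬ p ∣ charDegree (χ : G → ℂ))
    (hv : ∀ y ∈ centralizer ((P : Subgroup G) : Set G), ¬ p ∣ orderOf y →
      MemLocalIdeal M ((χ : G → ℂ) 1 - (χ : G → ℂ) y)) : χ ∈ principalBlock M G := by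
  classical
  have := Fintype.ofFinite G
  have : Finite (IrrCharacter G) := Core.finite_irr
  have := Fintype.ofFinite (IrrCharacter G)
  by_contra hB
  have h1 := H125.PC.b0_sum hM P (Core.isIrr_isCharacter χ.2) (fun φ => if φ = χ then 1 else 0) (by
    intro g
    rw [Finset.sum_eq_single χ]
    · rw [if_pos rfl, Int.cast_one, one_mul]
    · intro φ _ hφ
      rw [if_neg hφ, Int.cast_zero, zero_mul]
    · intro h; exact absurd (Finset.mem_univ _) h) hv
  rw [Finset.sum_eq_single χ, Finset.sum_eq_zero] at h1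
  · rw [if_pos rfl, one_mul] at h1
    exact hχ (Int.natCast_dvd_natCast.1 ((Int.modEq_zero_iff_dvd).1 h1))
  · intro φ _
    by_cases h : φ = χ
    · subst h
      rw [if_neg hB]
    · rw [if_neg h, zero_mul, ite_self]
  · intro φ _ hφ
    rw [if_neg hφ, zero_mul]
  · intro h; exact absurd (Finset.mem_univ _) h

/-- **going up** by index two -/
theorem b0_two (hM : IsPModular p M) (B : Subgroup G) (h2 : ∀ a b : G, a ∉ B → b ∉ B → a * b ∈ B) (ψ : IrrCharacter G)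
    (ψ0 : IrrCharacter B) (h : ∀ b : B, (ψ0 : B → ℂ) b = (ψ : G → ℂ) b) (hB : ψ0 ∈ principalBlock M B) :
    ψ ∈ principalBlock M G ∨ tw B h2 ψ ∈ principalBlock M G := by
  classical
  have := Fintype.ofFinite G
  have := Fintype.ofFinite B
  by_contra hcon
  push Not at hcon
  obtain ⟨h3, h4⟩ := hcon
  rw [H893.Sd.mem_iff hM, not_not] at h3 h4
  rw [H893.Sd.mem_iff hM] at hB
  apply hB
  have h5 : ∑ g : G, regPart p (ψ : G → ℂ) g + ∑ g : G, regPart p (tw B h2 ψ : G → ℂ) g =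
      2 * ∑ b : B, regPart p (ψ0 : B → ℂ) b := by
    rw [← Finset.sum_add_distrib, Finset.mul_sum]
    have h6 : ∀ b : B, 2 * regPart p (ψ0 : B → ℂ) b = (fun g : G => regPart p (ψ : G → ℂ) g + regPart p (tw B h2 ψ : G → ℂ) g) b := by
      intro b
      have ho : orderOf (b : G) = orderOf b := Subgroup.orderOf_coe b
      by_cases hb : p ∣ orderOf b
      · change 2 * regPart p (ψ0 : B → ℂ) b = regPart p (ψ : G → ℂ) b + regPart p (tw B h2 ψ : G → ℂ) b
        rw [regPart_of_dvd hb, regPart_of_dvd (ho.symm ▸ hb), regPart_of_dvd (ho.symm ▸ hb), mul_zero, add_zero]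
      · change 2 * regPart p (ψ0 : B → ℂ) b = regPart p (ψ : G → ℂ) b + regPart p (tw B h2 ψ : G → ℂ) b
        rw [regPart_of_not_dvd hb, regPart_of_not_dvd (ho.symm ▸ hb), regPart_of_not_dvd (ho.symm ▸ hb),
          tw_of_mem B h2 ψ b.2, h]
        ring
    rw [Finset.sum_congr rfl fun b _ => h6 b]
    have h7 := Finset.sum_subtype_eq_sum_filter (s := (Finset.univ : Finset G)) (p := (· ∈ B))
      (fun g : G => regPart p (ψ : G → ℂ) g + regPart p (tw B h2 ψ : G → ℂ) g)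
    have h8 : ∑ b : B, (fun g : G => regPart p (ψ : G → ℂ) g + regPart p (tw B h2 ψ : G → ℂ) g) b =
        ∑ g ∈ Finset.univ.filter (· ∈ B), (regPart p (ψ : G → ℂ) g + regPart p (tw B h2 ψ : G → ℂ) g) := by
      rw [← h7]
      refine Finset.sum_congr ?_ fun _ _ => rfl
      ext x
      simp
    rw [h8, Finset.sum_filter]
    refine Finset.sum_congr rfl fun g _ => ?_
    by_cases hg : g ∈ B
    · rw [if_pos hg]
    · rw [if_neg hg]
      by_cases hd : p ∣ orderOf g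
      · rw [regPart_of_dvd hd, regPart_of_dvd hd, add_zero]
      · rw [regPart_of_not_dvd hd, regPart_of_not_dvd hd, tw_of_not_mem B h2 ψ hg, add_neg_cancel]
  rw [h3, h4, add_zero] at h5
  rcases mul_eq_zero.1 h5.symm with h6 | h6
  · norm_num at h6
  · exact h6

end block

section irr

variable {G : Type u} [Group G] [Finite G] {S : Type w} [Group S] [Finite S] {X : Type u} [Group X] [Finite X]

/-- irreducible on `S`, hence on every group between `S` and `G` -/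
theorem isIrr_between (i : S →* G) (j : X →* G) (iX : S →* X) (hji : ∀ s, j (iX s) = i s) {χ : G → ℂ}
    (hχ : IsCharacter G χ) (h : IsIrrCharacter S (fun s => χ (i s))) : IsIrrCharacter X (fun x => χ (j x)) := by
  have := Fintype.ofFinite X
  have := Fintype.ofFinite S
  have hc : IsCharacter X (fun x : X => χ (j x)) := Core.isCharacter_comp j hχ
  obtain ⟨a, b, ha, hb, hab⟩ := norm_le iX hc
  have h1 : classInner (fun s : S => (fun x : X => χ (j x)) (iX s)) (fun s : S => (fun x : X => χ (j x)) (iX s)) = 1 := by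
    have h2 : (fun s : S => (fun x : X => χ (j x)) (iX s)) = fun s : S => χ (i s) := by
      funext s
      change χ (j (iX s)) = χ (i s)
      rw [hji]
    rw [h2]
    exact Core.classInner_irr_self h
  rw [h1] at hb
  have hb1 : b = 1 := by exact_mod_cast hb.symm
  have ha0 : a ≠ 0 := by
    intro h0
    rw [h0, Nat.cast_zero] at ha
    have h2 := congrFun (Core.classInner_self_eq_zero ha) 1
    change χ (j 1) = 0 at h2
    have h3 := Core.isIrr_apply_one_ne_zero h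
    change χ (i 1) ≠ 0 at h3
    rw [map_one] at h2 h3
    exact h3 h2
  have ha1 : a = 1 := by omega
  refine Core.isIrr_of_classInner_self hc ?_
  rw [ha, ha1, Nat.cast_one]

end irr

section main

variable {p : ℕ} [hp : Fact p.Prime] {M : Ideal AlgInt} {S : Type u} [Group S] [Fintype S]

/-- what centralizes the image of `Q` fixes `Q` pointwise -/
theorem cent_fix [IsSimpleGroup S] (hnc : ¬ IsMulCommutative S) {Y : Type v} [Group Y] (j : Y →* MulAut S) (iY : S →* Y)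
    (hji : ∀ s, j (iY s) = MulAut.conj s) (Q : Subgroup S) {c : Y} (hc : c ∈ centralizer ((Q.map iY : Subgroup Y) : Set Y)) :
    ∀ x ∈ Q, j c x = x := by
  intro x hx
  have h1 : iY x * c = c * iY x := (Subgroup.mem_centralizer_iff.1 hc) (iY x) ⟨x, hx, rfl⟩
  have h2 : MulAut.conj x * j c = j c * MulAut.conj x := by
    rw [← hji, ← map_mul, h1, map_mul]
  apply conj_injective hnc
  have h3 : MulAut.conj (j c x) = j c * MulAut.conj x * (j c)⁻¹ := by
    ext z
    simp [MulAut.conj_apply]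
  rw [h3, ← h2, mul_inv_cancel_right]

/-- the image of a Sylow subgroup of `S` is a Sylow subgroup -/
theorem exists_sylow_map {Y : Type v} [Group Y] [Finite Y] (iY : S →* Y) (hi : Function.Injective iY)
    (hidx : ¬ p ∣ iY.range.index) (Q : Sylow p S) : ∃ P : Sylow p Y, (P : Subgroup Y) = (Q : Subgroup S).map iY := by
  have h : ¬ p ∣ ((Q : Subgroup S).map iY).index := by
    rw [Subgroup.index_map, (MonoidHom.ker_eq_bot_iff iY).2 hi, sup_bot_eq]
    intro h
    rcases hp.out.dvd_mul.1 h with h | h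
    · exact Q.not_dvd_index h
    · exact hidx h
  exact ⟨(Q.2.map iY).toSylow h, rfl⟩

/-- **L9, block form** -/
theorem witA_two_b0 [IsSimpleGroup S] (hnc : ¬ IsMulCommutative S) (hM : IsPModular p M) {A : Subgroup (MulAut S)}
    (hA : ∀ s : S, MulAut.conj s ∈ A) (X : Subgroup (MulAut S)) (hXA : X ≤ A)
    (hSX : ∀ s : S, MulAut.conj s ∈ X) (hn : ∀ a ∈ A, ∀ x ∈ X, a * x * a⁻¹ ∈ X)
    (hpX : ¬ p ∣ (MulAut.conj : S →* MulAut S).range.relIndex X) {k : ℕ} (hk : X.relIndex A = p ^ k)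
    (A0 : Subgroup (MulAut S)) (hS0 : ∀ s : S, MulAut.conj s ∈ A0)
    (h2 : ∀ a ∈ A, ∀ b ∈ A, a ∉ A0 → b ∉ A0 → a * b ∈ A0)
    (χ : IrrCharacter A) (hχ : Cyc p (χ : A → ℂ)) (hdeg : ¬ p ∣ charDegree (χ : A → ℂ))
    (θ : IrrCharacter S) (hθ : ∀ s, (θ : S → ℂ) s = (χ : A → ℂ) (inn hA s)) (hθ1 : (θ : S → ℂ) ≠ (fun _ => 1))
    (hθc : Cyc p (θ : S → ℂ)) (ψ0 : IrrCharacter (A0.subgroupOf X))
    (hψ0 : ∀ x : A0.subgroupOf X, (ψ0 : A0.subgroupOf X → ℂ) x = (χ : A → ℂ) ⟨x, hXA x.1.2⟩)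
    (hB : ψ0 ∈ principalBlock M (A0.subgroupOf X)) : ∃ Ψ : A → ℂ, WitA p M S A hA Ψ := by
  have hX2 : ∀ a b : X, a ∉ A0.subgroupOf X → b ∉ A0.subgroupOf X → a * b ∈ A0.subgroupOf X :=
    fun a b ha hb => h2 a (hXA a.2) b (hXA b.2) ha hb
  have hA2 : ∀ a b : A, a ∉ A0.subgroupOf A → b ∉ A0.subgroupOf A → a * b ∈ A0.subgroupOf A :=
    fun a b ha hb => h2 a a.2 b b.2 ha hb
  have hirrS : IsIrrCharacter S (fun s => (χ : A → ℂ) (inn hA s)) := by
    have : (fun s => (χ : A → ℂ) (inn hA s)) = (θ : S → ℂ) := funext fun s => (hθ s).symm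
    rw [this]
    exact θ.2
  let ψ : IrrCharacter X := ⟨fun x => (χ : A → ℂ) (Subgroup.inclusion hXA x),
    isIrr_between (inn hA) (Subgroup.inclusion hXA) (inn hSX) (fun _ => rfl) (Core.isIrr_isCharacter χ.2) hirrS⟩
  have hreg : ∀ a : A, ¬ p ∣ orderOf a → a ∈ (Subgroup.inclusion hXA).range :=
    fun a ha => ⟨⟨a, reg_mem hn hk a ha⟩, rfl⟩
  rcases b0_two hM (A0.subgroupOf X) hX2 ψ ψ0 hψ0 hB with h | h
  · exact ⟨_, wit_of_chars hnc hM hA (Subgroup.inclusion hXA) (Subgroup.inclusion_injective hXA) (inn hSX) (fun _ => rfl)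
      hreg (idx_not_dvd hSX hpX) χ θ ψ hθ hθc hθ1 hχ hdeg h (fun _ => rfl)⟩
  · refine ⟨_, wit_of_chars hnc hM hA (Subgroup.inclusion hXA) (Subgroup.inclusion_injective hXA) (inn hSX) (fun _ => rfl)
      hreg (idx_not_dvd hSX hpX) (tw (A0.subgroupOf A) hA2 χ) θ (tw (A0.subgroupOf X) hX2 ψ) ?_ hθc hθ1
      (tw_cyc _ hA2 hχ) ?_ h ?_⟩
    · intro s
      rw [tw_of_mem (A0.subgroupOf A) hA2 χ (hS0 s), hθ]
    · rw [tw_degree]
      exact hdeg
    · intro y
      by_cases hy : (y : MulAut S) ∈ A0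
      · rw [tw_of_mem (A0.subgroupOf X) hX2 ψ hy, tw_of_mem (A0.subgroupOf A) hA2 χ (a := Subgroup.inclusion hXA y) hy]
      · rw [tw_of_not_mem (A0.subgroupOf X) hX2 ψ hy, tw_of_not_mem (A0.subgroupOf A) hA2 χ (a := Subgroup.inclusion hXA y) hy]

/-- **L9** : `χ` satisfies the local condition on `A₀` -/
theorem witA_two [IsSimpleGroup S] (hnc : ¬ IsMulCommutative S) (hM : IsPModular p M) {A : Subgroup (MulAut S)}
    (hA : Amb p S A) (A0 : Subgroup (MulAut S)) (hS0 : ∀ s : S, MulAut.conj s ∈ A0)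
    (h2 : ∀ a ∈ A, ∀ b ∈ A, a ∉ A0 → b ∉ A0 → a * b ∈ A0)
    (χ : IrrCharacter A) (hχ : Cyc p (χ : A → ℂ)) (hdeg : ¬ p ∣ charDegree (χ : A → ℂ))
    (θ : IrrCharacter S) (hθ : ∀ s, (θ : S → ℂ) s = (χ : A → ℂ) (inn hA.1 s)) (hθ1 : (θ : S → ℂ) ≠ (fun _ => 1))
    (hθc : Cyc p (θ : S → ℂ))
    (hloc : ∀ a : A, (a : MulAut S) ∈ A0 → ¬ p ∣ orderOf a → (∃ Q : Sylow p S, ∀ x ∈ Q, (a : MulAut S) x = x) →
      MemLocalIdeal M ((χ : A → ℂ) a - (χ : A → ℂ) 1)) : ∃ Ψ : A → ℂ, WitA p M S A hA.1 Ψ := by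
  obtain ⟨X, hXA, hSX, hn, hpX, k, hk⟩ := hA.2
  have hirrS : IsIrrCharacter S (fun s => (χ : A → ℂ) (inn hA.1 s)) := by
    have : (fun s => (χ : A → ℂ) (inn hA.1 s)) = (θ : S → ℂ) := funext fun s => (hθ s).symm
    rw [this]
    exact θ.2
  -- the group `X ∩ A₀`
  let j : A0.subgroupOf X →* A := (Subgroup.inclusion hXA).comp (A0.subgroupOf X).subtype
  let iB : S →* A0.subgroupOf X := (inn hSX).codRestrict (A0.subgroupOf X) (fun s => hS0 s)
  have hiB : Function.Injective iB := fun s t h => inn_injective hnc hSX (congrArg Subtype.val h)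
  have hidx : ¬ p ∣ iB.range.index := by
    intro h
    apply idx_not_dvd hSX hpX
    have h1 : (inn hSX).range = iB.range.map (A0.subgroupOf X).subtype := by
      rw [MonoidHom.map_range]
      rfl
    rw [h1, Subgroup.index_map_subtype]
    exact Dvd.dvd.mul_right h _
  let ψ0 : IrrCharacter (A0.subgroupOf X) := ⟨fun x => (χ : A → ℂ) (j x),
    isIrr_between (inn hA.1) j iB (fun _ => rfl) (Core.isIrr_isCharacter χ.2) hirrS⟩
  let Q : Sylow p S := default
  obtain ⟨P, hP⟩ := exists_sylow_map iB hiB hidx Q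
  refine witA_two_b0 hnc hM hA.1 X hXA hSX hn hpX hk A0 hS0 h2 χ hχ hdeg θ hθ hθ1 hθc ψ0 (fun _ => rfl) ?_
  refine b0_of_loc hM P ψ0 ?_ ?_
  · have h1 : charDegree (ψ0 : A0.subgroupOf X → ℂ) = charDegree (χ : A → ℂ) := by
      unfold charDegree
      simp only [ψ0, map_one]
    rw [h1]
    exact hdeg
  · intro y hy hyp
    rw [hP] at hy
    have h1 := cent_fix hnc (A.subtype.comp j) iB (fun _ => rfl) (Q : Subgroup S) hy
    have h3 : orderOf (j y) = orderOf y :=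
      orderOf_injective j (fun a b h => Subtype.ext (Subgroup.inclusion_injective hXA h)) y
    have h4 := hloc (j y) y.2 (by rw [h3]; exact hyp) ⟨Q, h1⟩
    have h5 : (ψ0 : A0.subgroupOf X → ℂ) 1 - (ψ0 : A0.subgroupOf X → ℂ) y = -((χ : A → ℂ) (j y) - (χ : A → ℂ) 1) := by
      change (χ : A → ℂ) (j 1) - (χ : A → ℂ) (j y) = _
      rw [map_one]
      ring
    rw [h5]
    have hMp : M.IsPrime := Cfsg.Agent.Blocks.Local.isPrime_of_isPModular hM
    exact Blocks.LocalRing.memLocalIdeal_neg h4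

/-- **L9** from a witness on `A ∩ A₀` -/
theorem witA_two_of_wit [IsSimpleGroup S] (hnc : ¬ IsMulCommutative S) (hM : IsPModular p M) {A : Subgroup (MulAut S)}
    (hA : Amb p S A) (A0 : Subgroup (MulAut S)) (hS0 : ∀ s : S, MulAut.conj s ∈ A ⊓ A0)
    (h2 : ∀ a ∈ A, ∀ b ∈ A, a ∉ A0 → b ∉ A0 → a * b ∈ A0)
    (χ : IrrCharacter A) (hχ : Cyc p (χ : A → ℂ))
    (θ : IrrCharacter S) (hθ : ∀ s, (θ : S → ℂ) s = (χ : A → ℂ) (inn hA.1 s))
    (hW : WitA p M S (A ⊓ A0 : Subgroup (MulAut S)) hS0 (fun a => (χ : A → ℂ) ⟨a, a.2.1⟩)) :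
    ∃ Ψ : A → ℂ, WitA p M S A hA.1 Ψ := by
  have hm := hW.mf θ
  have h1 : mul (res hS0 (fun a => (χ : A → ℂ) ⟨a, a.2.1⟩)) (θ : S → ℂ) = 1 := by
    have h2 : mul (res hS0 (fun a => (χ : A → ℂ) ⟨a, a.2.1⟩)) (θ : S → ℂ) =
      classInner (res hS0 (fun a => (χ : A → ℂ) ⟨a, a.2.1⟩)) (θ : S → ℂ) := rfl
    have h3 : res hS0 (fun a => (χ : A → ℂ) ⟨a, a.2.1⟩) = (θ : S → ℂ) := funext fun s => (hθ s).symm
    rw [h2, h3]
    exact Core.classInner_irr_self θ.2
  rw [h1] at hm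
  rcases hm with hm | ⟨-, hm1, hm2⟩
  · exact absurd hm one_ne_zero
  obtain ⟨n, hn, hpn⟩ := hW.deg
  refine witA_two hnc hM hA A0 (fun s => (hS0 s).2) h2 χ hχ ?_ θ hθ hm1 hm2 ?_
  · have h3 : (charDegree (χ : A → ℂ) : ℂ) = n := by
      rw [← (S0914.degree_spec χ).1, ← hn]
      rfl
    have h4 : charDegree (χ : A → ℂ) = n := by exact_mod_cast h3
    rw [h4]
    exact hpn
  · rintro a ha hap ⟨Q, hQ⟩
    have h3 : orderOf (⟨a, a.2, ha⟩ : (A ⊓ A0 : Subgroup (MulAut S))) = orderOf a := by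
      rw [← Subgroup.orderOf_coe, ← Subgroup.orderOf_coe a]
    exact hW.loc ⟨a, a.2, ha⟩ (by rw [h3]; exact hap) ⟨Q, hQ⟩

/-- **L9** from a witness on `A₀ ≤ A` (helper125's form) -/
theorem witA_two_of_le [IsSimpleGroup S] (hnc : ¬ IsMulCommutative S) (hM : IsPModular p M) {A : Subgroup (MulAut S)}
    (hA : Amb p S A) (A0 : Subgroup (MulAut S)) (hle : A0 ≤ A) (hS0 : ∀ s : S, MulAut.conj s ∈ A0)
    (h2 : ∀ a ∈ A, ∀ b ∈ A, a ∉ A0 → b ∉ A0 → a * b ∈ A0)
    (χ : IrrCharacter A) (hχ : Cyc p (χ : A → ℂ))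
    (θ : IrrCharacter S) (hθ : ∀ s, (θ : S → ℂ) s = (χ : A → ℂ) (inn hA.1 s))
    (hW : WitA p M S A0 hS0 (fun a => (χ : A → ℂ) ⟨a, hle a.2⟩)) :
    ∃ Ψ : A → ℂ, WitA p M S A hA.1 Ψ := by
  have hm := hW.mf θ
  have h1 : mul (res hS0 (fun a => (χ : A → ℂ) ⟨a, hle a.2⟩)) (θ : S → ℂ) = 1 := by
    have h2 : mul (res hS0 (fun a => (χ : A → ℂ) ⟨a, hle a.2⟩)) (θ : S → ℂ) =
      classInner (res hS0 (fun a => (χ : A → ℂ) ⟨a, hle a.2⟩)) (θ : S → ℂ) := rfl
    have h3 : res hS0 (fun a => (χ : A → ℂ) ⟨a, hle a.2⟩) = (θ : S → ℂ) := funext fun s => (hθ s).symm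
    rw [h2, h3]
    exact Core.classInner_irr_self θ.2
  rw [h1] at hm
  rcases hm with hm | ⟨-, hm1, hm2⟩
  · exact absurd hm one_ne_zero
  obtain ⟨n, hn, hpn⟩ := hW.deg
  refine witA_two hnc hM hA A0 hS0 h2 χ hχ ?_ θ hθ hm1 hm2 ?_
  · have h3 : (charDegree (χ : A → ℂ) : ℂ) = n := by
      rw [← (S0914.degree_spec χ).1, ← hn]
      rfl
    have h4 : charDegree (χ : A → ℂ) = n := by exact_mod_cast h3
    rw [h4]
    exact hpn
  · rintro a ha hap ⟨Q, hQ⟩
    have h3 : orderOf (⟨a, ha⟩ : A0) = orderOf a := by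
      rw [← Subgroup.orderOf_coe, ← Subgroup.orderOf_coe a]
    exact hW.loc ⟨a, ha⟩ (by rw [h3]; exact hap) ⟨Q, hQ⟩

end main

end Cfsg.Agent.H598.CY
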