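import Cfsg.Agent.H598.CY.Orb
import Cfsg.Agent.Characters.Clifford

/-!
# S4829, lemma L10: constituents of multiplicity one (helper598, after helper770)

`A` acts on the finite set `Y`, `S` normal in `A`, `θ` an `A`-invariant irreducible character of `S`, of multiplicity one
in the permutation character. Then `θ` has an extension to `A` which occurs (once) in the permutation character of `A`;
it is `p`-cyclotomic if `θ` is.
-/

set_option autoImplicit false
set_option linter.unusedSectionVars false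

open Subgroup
open scoped ComplexConjugate

namespace Cfsg.Agent.H598.CY

open Cfsg Cfsg.Agent.Characters Cfsg.Agent.H145.BR
open Cfsg.Agent.H770.CY (Cyc Amb res mul WitA RowA)

universe u v w

section

variable {A : Type u} [Group A] [Finite A] {S : Type w} [Group S] [Finite S] (i : S →* A)

/-- Clifford's theorem, `θ` invariant -/
theorem clifford_inv [Fintype S] (hi : Function.Injective i) (hn : i.range.Normal) {χ : A → ℂ} (hχ : IsIrrCharacter A χ)
    {θ : S → ℂ} (hθ : IsIrrCharacter S θ) (hinv : ∀ (a : A) (s t : S), a * i s * a⁻¹ = i t → θ t = θ s)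
    (h0 : classInner (fun s => χ (i s)) θ ≠ 0) {η : S → ℂ} (hη : IsIrrCharacter S η)
    (h1 : classInner (fun s => χ (i s)) η ≠ 0) : η = θ := by
  classical
  have := Fintype.ofFinite A
  have := Fintype.ofFinite i.range
  let e : S ≃* i.range := MonoidHom.ofInjective hi
  have he : ∀ s, (e s : A) = i s := fun s => rfl
  have hes : ∀ x : i.range, i (e.symm x) = x := fun x => by
    rw [← he, MulEquiv.apply_symm_apply]
  have hirr : ∀ {φ : S → ℂ}, IsIrrCharacter S φ → IsIrrCharacter i.range (φ ∘ e.symm) := fun {φ} h =>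
    Core.isIrr_comp (e.symm : i.range →* S) e.symm.surjective h
  have hin : ∀ φ : S → ℂ, classInner (fun n : i.range => χ n) (φ ∘ e.symm) = classInner (fun s => χ (i s)) φ := by
    intro φ
    have h2 := Clifford.classInner_comp_mulEquiv e (fun n : i.range => χ n) (φ ∘ e.symm)
    rw [← h2]
    congr 1
    funext s
    simp
  obtain ⟨g, hg⟩ := Clifford.exists_conj_of_constituents i.range hχ (hirr hθ) (hirr hη) (by rwa [hin]) (by rwa [hin])
  funext s
  have h3 := congrFun hg (e s)
  simp only [Function.comp_apply, MulEquiv.symm_apply_apply] at h3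
  rw [h3]
  refine hinv g s _ ?_
  rw [hes, MulAut.conjNormal_apply, he]

theorem eq_of_inv [Fintype S] (hi : Function.Injective i) (hn : i.range.Normal) {χ : A → ℂ} (hχ : IsIrrCharacter A χ)
    {θ : S → ℂ} (hθ : IsIrrCharacter S θ) (hinv : ∀ (a : A) (s t : S), a * i s * a⁻¹ = i t → θ t = θ s)
    (h1 : classInner (fun s => χ (i s)) θ = 1) (s : S) : χ (i s) = θ s := by
  classical
  have : Finite (IrrCharacter S) := Core.finite_irr
  have := Fintype.ofFinite (IrrCharacter S)
  have hcl := Core.classFunction_eq_sum (Core.isCharacter_isClassFunction (Core.isCharacter_comp i (Core.isIrr_isCharacter hχ)))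
  have h2 := congrFun hcl s
  change χ (i s) = _ at h2
  rw [h2, Finset.sum_apply, Finset.sum_eq_single (⟨θ, hθ⟩ : IrrCharacter S)]
  · rw [Pi.smul_apply]
    change classInner (fun s => χ (i s)) θ • θ s = θ s
    rw [h1, one_smul]
  · intro η _ hne
    have h3 : classInner (fun s => χ (i s)) (η : S → ℂ) = 0 := by
      by_contra h4
      exact hne (Subtype.ext (clifford_inv i hi hn hχ hθ hinv (by rw [h1]; exact one_ne_zero) η.2 h4))
    rw [Pi.smul_apply]
    change classInner (fun s => χ (i s)) (η : S → ℂ) • (η : S → ℂ) s = 0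
    rw [h3, zero_smul]
  · intro h; exact absurd (Finset.mem_univ _) h

/-- **L10** -/
theorem iso_one [Fintype A] [Fintype S] {p : ℕ} (hi : Function.Injective i) (hn : i.range.Normal) (Y : Type v) [Finite Y]
    [MulAction A Y] (θ : IrrCharacter S) (h1 : classInner (fun s => permC A Y (i s)) (θ : S → ℂ) = 1)
    (hinv : ∀ (a : A) (s t : S), a * i s * a⁻¹ = i t → (θ : S → ℂ) t = (θ : S → ℂ) s) (hc : Cyc p (θ : S → ℂ)) :
    ∃ χ : IrrCharacter A, (∀ s, (χ : A → ℂ) (i s) = (θ : S → ℂ) s) ∧ Cyc p (χ : A → ℂ) ∧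
      classInner (permC A Y) (χ : A → ℂ) = 1 := by
  classical
  have : Finite (IrrCharacter A) := Core.finite_irr
  have := Fintype.ofFinite (IrrCharacter A)
  have hpi : IsCharacter A (permC A Y) := isCharacter_permC (G := A) Y
  obtain ⟨m, hm⟩ := Core.isCharacter_iff.1 hpi
  have hmul : ∀ χ : IrrCharacter A, classInner (permC A Y) (χ : A → ℂ) = (m χ : ℂ) := by
    intro χ
    rw [hm]
    exact Core.classInner_sum_nsmul_irr m χ
  have hnat : ∀ χ : IrrCharacter A, ∃ n : ℕ, classInner (fun s => (χ : A → ℂ) (i s)) (θ : S → ℂ) = n := fun χ =>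
    Core.classInner_isNat (Core.isCharacter_comp i (Core.isIrr_isCharacter χ.2)) (Core.isIrr_isCharacter θ.2)
  choose r hr using hnat
  have hsum : ∑ χ : IrrCharacter A, m χ * r χ = 1 := by
    have h2 : (fun s : S => permC A Y (i s)) = ∑ φ : IrrCharacter A, (m φ : ℂ) • (fun s : S => (φ : A → ℂ) (i s)) := by
      funext s
      rw [hm, Finset.sum_apply, Finset.sum_apply]
      refine Finset.sum_congr rfl fun χ _ => ?_
      rw [Pi.smul_apply, Pi.smul_apply, nsmul_eq_mul, smul_eq_mul]
    rw [h2, Core.classInner_sum_left] at h1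
    have h3 : ((∑ χ : IrrCharacter A, m χ * r χ : ℕ) : ℂ) = 1 := by
      rw [← h1, Nat.cast_sum]
      refine Finset.sum_congr rfl fun χ _ => ?_
      rw [Core.classInner_smul_left, hr, Nat.cast_mul]
    exact_mod_cast h3
  obtain ⟨χ, hχ⟩ : ∃ χ, m χ * r χ ≠ 0 := by
    by_contra hcon
    push Not at hcon
    rw [Finset.sum_eq_zero fun χ _ => hcon χ] at hsum
    exact zero_ne_one hsum
  have hle : m χ * r χ ≤ 1 := by
    rw [← hsum]
    exact Finset.single_le_sum (f := fun χ => m χ * r χ) (fun _ _ => Nat.zero_le _) (Finset.mem_univ χ)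
  have hprod : m χ * r χ = 1 := by omega
  have hm1 : m χ = 1 := Nat.dvd_one.1 ⟨_, hprod.symm⟩
  have hr1 : r χ = 1 := Nat.dvd_one.1 ⟨m χ, by rw [mul_comm]; exact hprod.symm⟩
  have huniq : ∀ φ : IrrCharacter A, m φ * r φ ≠ 0 → φ = χ := by
    intro φ hφ
    by_contra hne
    have h2 : m φ * r φ + m χ * r χ ≤ ∑ χ : IrrCharacter A, m χ * r χ := by
      rw [← Finset.sum_pair (f := fun χ => m χ * r χ) hne]
      exact Finset.sum_le_sum_of_subset (Finset.subset_univ _)
    omega
  have hrθ : classInner (fun s => (χ : A → ℂ) (i s)) (θ : S → ℂ) = 1 := by rw [hr, hr1, Nat.cast_one]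
  have hext : ∀ s, (χ : A → ℂ) (i s) = (θ : S → ℂ) s := eq_of_inv i hi hn χ.2 θ.2 hinv hrθ
  refine ⟨χ, hext, ?_, by rw [hmul, hm1, Nat.cast_one]⟩
  intro k hk hkp g
  let χ' : IrrCharacter A := ⟨fun g => (χ : A → ℂ) (g ^ k), Cfsg.Agent.Characters.GaloisIrr.isIrr_pow hk χ.2⟩
  have h2 : m χ' = 1 := by
    have h3 : classInner (permC A Y) (χ' : A → ℂ) = classInner (permC A Y) (χ : A → ℂ) := by
      rw [← H125.PC.inner_pow hk (permC A Y) (χ : A → ℂ)]
      congr 1
      funext g
      exact (permC_pow Y hk g).symm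
    rw [hmul, hmul, hm1] at h3
    exact_mod_cast h3
  have h3 : r χ' ≠ 0 := by
    intro h0
    have h4 := hr χ'
    have hkS : k.Coprime (Nat.card S) := hk.coprime_dvd_right (Subgroup.card_dvd_of_injective i hi)
    have h5 : (fun s : S => (χ' : A → ℂ) (i s)) = (θ : S → ℂ) := by
      funext s
      change (χ : A → ℂ) ((i s) ^ k) = (θ : S → ℂ) s
      rw [← map_pow, hext]
      exact hc k hkS hkp s
    rw [h5, h0, Core.classInner_irr_self θ.2, Nat.cast_zero] at h4
    exact one_ne_zero h4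
  have heq : χ' = χ := huniq χ' (by rw [h2, one_mul]; exact h3)
  exact congrFun (congrArg Subtype.val heq) g

/-- **L10** in helper125's form -/
theorem iso_one' [Fintype A] [Fintype S] {p : ℕ} (hi : Function.Injective i) (hn : ∀ (a : A) (s : S), ∃ t : S, i t = a * i s * a⁻¹)
    (Y : Type v) [Finite Y]
    [MulAction A Y] (θ : IrrCharacter S) (h1 : classInner (fun s => permC A Y (i s)) (θ : S → ℂ) = 1)
    (hinv : ∀ (a : A) (s t : S), i t = a * i s * a⁻¹ → (θ : S → ℂ) t = (θ : S → ℂ) s) (hc : Cyc p (θ : S → ℂ)) :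
    ∃ χ : IrrCharacter A, (∀ s, (χ : A → ℂ) (i s) = (θ : S → ℂ) s) ∧ Cyc p (χ : A → ℂ) ∧
      classInner (permC A Y) (χ : A → ℂ) = 1 :=
  iso_one i hi ⟨by
    rintro _ ⟨s, rfl⟩ a
    exact hn a s⟩ Y θ h1 (fun a s t h => hinv a s t h.symm) hc

end

section aut

variable {p : ℕ} {S : Type u} [Group S] [Fintype S]

theorem inn_conj {A : Subgroup (MulAut S)} (hA : ∀ s : S, MulAut.conj s ∈ A) (a : A) (s : S) :
    a * inn hA s * a⁻¹ = inn hA ((a : MulAut S) s) := by
  apply Subtype.ext
  change (a : MulAut S) * MulAut.conj s * (a : MulAut S)⁻¹ = MulAut.conj ((a : MulAut S) s)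
  ext z
  simp [MulAut.conj_apply]

theorem inn_range_normal {A : Subgroup (MulAut S)} (hA : ∀ s : S, MulAut.conj s ∈ A) : (inn hA).range.Normal := by
  constructor
  rintro _ ⟨s, rfl⟩ a
  exact ⟨(a : MulAut S) s, (inn_conj hA a s).symm⟩

/-- **L10**, for a group of automorphisms -/
theorem iso_one_aut [IsSimpleGroup S] (hnc : ¬ IsMulCommutative S) {A : Subgroup (MulAut S)} [Fintype A]
    (hA : ∀ s : S, MulAut.conj s ∈ A) (Y : Type v) [Finite Y] [MulAction A Y] (θ : IrrCharacter S)
    (h1 : classInner (fun s => permC A Y (inn hA s)) (θ : S → ℂ) = 1)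
    (hinv : ∀ a ∈ A, ∀ s, (θ : S → ℂ) (a s) = (θ : S → ℂ) s) (hc : Cyc p (θ : S → ℂ)) :
    ∃ χ : IrrCharacter A, (∀ s, (χ : A → ℂ) (inn hA s) = (θ : S → ℂ) s) ∧ Cyc p (χ : A → ℂ) ∧
      classInner (permC A Y) (χ : A → ℂ) = 1 := by
  refine iso_one (inn hA) (inn_injective hnc hA) (inn_range_normal hA) Y θ h1 ?_ hc
  intro a s t h
  rw [inn_conj] at h
  rw [← inn_injective hnc hA h]
  exact hinv a a.2 s

end aut

end Cfsg.Agent.H598.CY
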